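import Groth.Prelude.Def_DescFam
import Mathlib

/-!
# Effectivity of descent data made of monomorphisms
-/

set_option autoImplicit false
set_option backward.isDefEq.respectTransparency false
set_option backward.isDefEq.respectTransparency.types false
universe u
open CategoryTheory CategoryTheory.Limits AlgebraicGeometry

namespace Groth.Agent.DescMono

variable {S : Scheme.{u}} {ι : Type u} {X : ι → Scheme.{u}} {f : ∀ i, X i ⟶ S} (D : Desc.SchDDFam f)

/-- A factorisation through one member gives one through another. -/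
theorem factors_of_factors {T : Scheme.{u}} {i j : ι} (x₀ : T ⟶ X i) (x₁ : T ⟶ X j)
    (h : x₀ ≫ f i = x₁ ≫ f j) (hx : ∃ v, v ≫ (D.obj i).hom = x₀) : ∃ v, v ≫ (D.obj j).hom = x₁ :=
  ⟨(D.φ x₀ x₁ h ⟨hx.choose, hx.choose_spec⟩).1, (D.φ x₀ x₁ h ⟨hx.choose, hx.choose_spec⟩).2⟩

theorem isEffective_of_mono (hD : ∀ i, Mono (D.obj i).hom) (U : Over S)
    (e : ∀ i, Over.mk (pullback.fst (f i) U.hom) ≅ D.obj i) : D.IsEffective := by
  have hm : ∀ i, Mono ((Desc.canonicalDDFam f U).obj i).hom := fun i => by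
    haveI := hD i
    show Mono (pullback.fst (f i) U.hom)
    have hw : (e i).hom.left ≫ (D.obj i).hom = pullback.fst (f i) U.hom := Over.w (e i).hom
    rw [← hw]
    infer_instance
  let a : Desc.canonicalDDFam f U ⟶ D := ⟨fun i => (e i).hom, fun T i j x₀ x₁ h v w _ => by
    haveI := hD j
    rw [← cancel_mono (D.obj j).hom, Category.assoc]
    refine (D.φ x₀ x₁ h w).2.trans ?_
    refine (((Desc.canonicalDDFam f U).φ x₀ x₁ h v).2).symm.trans ?_
    exact congrArg (((Desc.canonicalDDFam f U).φ x₀ x₁ h v).1 ≫ ·) (Over.w (e j).hom).symm⟩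
  let b : D ⟶ Desc.canonicalDDFam f U := ⟨fun i => (e i).inv, fun T i j x₀ x₁ h v w _ => by
    haveI := hm j
    rw [← cancel_mono ((Desc.canonicalDDFam f U).obj j).hom, Category.assoc]
    refine (((Desc.canonicalDDFam f U).φ x₀ x₁ h w).2).trans ?_
    refine ((D.φ x₀ x₁ h v).2).symm.trans ?_
    exact congrArg ((D.φ x₀ x₁ h v).1 ≫ ·) (Over.w (e j).inv).symm⟩
  exact ⟨U, ⟨⟨a, b, Desc.SchDDFam.hom_ext (funext fun i => (e i).hom_inv_id),
    Desc.SchDDFam.hom_ext (funext fun i => (e i).inv_hom_id)⟩⟩⟩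

end Groth.Agent.DescMono
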